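import Cfsg.Agent.SchurBound.Basic
import Cfsg.Agent.SL2Mult.Mult

/-!
Bounds on kernels of stem extensions from an elementary abelian Sylow `3`-subgroup of order nine
and a dihedral Sylow `2`-subgroup of order eight.
-/

set_option autoImplicit false
set_option linter.style.haveILetI false

namespace CfsgLib.AltCover

open scoped commutatorElement
open CfsgLib

theorem sq_dvd_card_closure {G : Type*} [Group G] [Finite G] {p : ℕ} [hp : Fact p.Prime] {a b : G}
    (ha : orderOf a = p) (hb : orderOf b = p) (hab : Commute a b) (hba : b ∉ Subgroup.zpowers a) :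
    p * p ∣ Nat.card (Subgroup.closure ({a, b} : Set G)) := by
  set H := Subgroup.closure ({a, b} : Set G)
  have haH : a ∈ H := Subgroup.subset_closure (by simp)
  have hbH : b ∈ H := Subgroup.subset_closure (by simp)
  let K := (Subgroup.zpowers a).subgroupOf H
  have hcen : ∀ x ∈ H, Commute a x := by
    intro x hx
    induction hx using Subgroup.closure_induction with
    | mem x hx =>
      rcases hx with rfl | rfl
      · exact Commute.refl x
      · exact hab
    | one => exact Commute.one_right a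
    | mul x y _ _ hx hy => exact hx.mul_right hy
    | inv x _ hx => exact hx.inv_right
  haveI : K.Normal := ⟨fun n hn g => by
    obtain ⟨k, hk⟩ := Subgroup.mem_zpowers_iff.1 hn
    refine Subgroup.mem_zpowers_iff.2 ⟨k, ?_⟩
    change a ^ k = (g : G) * (n : G) * (g : G)⁻¹
    change a ^ k = (n : G) at hk
    rw [← hk, ← ((hcen g g.2).zpow_left k).eq, mul_inv_cancel_right]⟩
  have hne : ((⟨b, hbH⟩ : H) : H ⧸ K) ≠ 1 := by
    rw [Ne, QuotientGroup.eq_one_iff]
    exact hba
  have hord : orderOf ((⟨b, hbH⟩ : H) : H ⧸ K) = p := by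
    refine orderOf_eq_prime ?_ hne
    rw [← QuotientGroup.mk_pow]
    rw [show (⟨b, hbH⟩ : H) ^ p = 1 from Subtype.ext (by rw [← hb]; exact pow_orderOf_eq_one b)]
    rfl
  have h2 : p ∣ Nat.card (H ⧸ K) := hord ▸ orderOf_dvd_natCard _
  have h3 : Nat.card K = p := by
    rw [Nat.card_congr (Subgroup.subgroupOfEquivOfLe (Subgroup.zpowers_le.2 haH)).toEquiv,
      Nat.card_zpowers, ha]
  rw [← K.index_mul_card, h3]
  exact mul_dvd_mul_right h2 p

/-- The kernel modulo the three-part: one element of order dividing three carries a fixed power,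
prime to three, of every kernel element. -/
theorem three_part {G Γ : Type*} [Group G] [Finite G] [Group Γ] [Finite Γ] (σ : Γ →* G)
    (hσ : Cfsg.IsStemExtension σ) {a b : G} (ha : orderOf a = 3) (hb : orderOf b = 3)
    (hab : Commute a b) (hba : b ∉ Subgroup.zpowers a) (h27 : ¬ 27 ∣ Nat.card G) :
    ∃ (e : Γ) (j : ℕ), e ∈ σ.ker ∧ e ^ 3 = 1 ∧ ¬ 3 ∣ j ∧ j ∣ Nat.card G ∧
      ∀ z ∈ σ.ker, z ^ j ∈ Subgroup.zpowers e := by
  haveI := Fact.mk Nat.prime_three
  set P := Subgroup.closure ({a, b} : Set G) with hP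
  have hidx : ¬ 3 ∣ P.index := fun h => h27 (by
    rw [← P.card_mul_index]
    exact mul_dvd_mul (sq_dvd_card_closure ha hb hab hba) h)
  obtain ⟨A, hA⟩ := hσ.1 a
  obtain ⟨B, hB⟩ := hσ.1 b
  have hker : ⁅B, A⁆ ∈ σ.ker := by
    rw [MonoidHom.mem_ker, map_commutatorElement, hA, hB, commutatorElement_eq_one_iff_commute]
    exact hab.symm
  have hc := fun y => SchurBound.commute_of_mem_ker σ hσ.2.1 hker y
  have he3 : ⁅B, A⁆ ^ 3 = 1 := by
    have hB3 : Commute (B * (B * B)) A := SchurBound.commute_of_mem_ker σ hσ.2.1 (by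
      rw [map_mul, map_mul, hB, ← mul_assoc, ← pow_two, ← pow_succ]
      rw [show 2 + 1 = orderOf b from hb.symm]; exact pow_orderOf_eq_one b) A
    have h2 : ⁅B * B, A⁆ = ⁅B, A⁆ * ⁅B, A⁆ := SchurBound.commutator_mul_left (hc B).symm
    have h3 := SchurBound.commutator_mul_left (x := B) (y := B * B) (z := A)
      (h2 ▸ (hc B).symm.mul_right (hc B).symm)
    rw [commutatorElement_eq_one_iff_commute.2 hB3, h2] at h3
    rw [pow_succ, pow_two]; exact h3.symm
  set H := P.comap σ with hH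
  have hAH : A ∈ H := by rw [hH, Subgroup.mem_comap, hA]; exact Subgroup.subset_closure (by simp)
  have hBH : B ∈ H := by rw [hH, Subgroup.mem_comap, hB]; exact Subgroup.subset_closure (by simp)
  have hle : ⁅H, H⁆ ≤ Subgroup.zpowers ⁅B, A⁆ := by
    have hgen : Subgroup.closure ({⟨A, hAH⟩, ⟨B, hBH⟩} ∪ (Subgroup.center H : Set H)) = ⊤ := by
      refine CfsgLib.SchurTheory.closure_union_center_eq_top
        ((σ.comp H.subtype).codRestrict P (fun x => x.2)) ?_ ?_
      · intro x hx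
        rw [Subgroup.mem_center_iff]
        intro y
        exact Subtype.ext (SchurBound.commute_of_mem_ker σ hσ.2.1
          (congrArg Subtype.val hx) (y : Γ)).symm.eq
      · rw [← Subgroup.map_injective (Subgroup.subtype_injective _) |>.eq_iff,
          MonoidHom.map_closure, Set.image_pair, ← MonoidHom.range_eq_map, Subgroup.range_subtype]
        show Subgroup.closure ({σ A, σ B} : Set G) = _
        rw [hA, hB]
    have key := CfsgLib.SchurTheory.commutator_le_zpowers hgen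
      (c := ⁅(⟨B, hBH⟩ : H), (⟨A, hAH⟩ : H)⁆) rfl
      (Subgroup.mem_zpowers_iff.2 ⟨1, Subtype.ext (by
        simp only [zpow_one]
        show ⁅B, A⁆ = A * ⁅B, A⁆ * A⁻¹
        rw [← (hc A).eq, mul_inv_cancel_right])⟩)
      (Subgroup.mem_zpowers_iff.2 ⟨1, Subtype.ext (by
        simp only [zpow_one]
        show ⁅B, A⁆ = B * ⁅B, A⁆ * B⁻¹
        rw [← (hc B).eq, mul_inv_cancel_right])⟩)
      (isOfFinOrder_of_finite _)
    rw [Subgroup.commutator_le]
    intro x hx y hy
    obtain ⟨k, hk⟩ := Subgroup.mem_zpowers_iff.1 (key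
      (Subgroup.commutator_mem_commutator (Subgroup.mem_top (⟨x, hx⟩ : H))
        (Subgroup.mem_top (⟨y, hy⟩ : H))))
    exact Subgroup.mem_zpowers_iff.2
      ⟨k, by simpa [commutatorElement_def] using congrArg Subtype.val hk⟩
  refine ⟨⁅B, A⁆, P.index, hker, he3, hidx, P.index_dvd_card, fun z hz => ?_⟩
  have h := Schur.pow_index_mem_commutator H (hσ.2.1 hz) (hσ.2.2 hz)
  rw [hH, Subgroup.index_comap_of_surjective _ hσ.1] at h
  exact hle h

/-- The two-part over a dihedral group of order eight. -/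
theorem two_part {G Γ : Type*} [Group G] [Finite G] [Group Γ] [Finite Γ] (σ : Γ →* G)
    (hσ : Cfsg.IsStemExtension σ) {r s : G} (hr : orderOf r = 4) (hsr : s * r * s⁻¹ = r⁻¹)
    (hs : s * s = 1) (hns : s ∉ Subgroup.zpowers r) {k : ℕ} (hk : Odd k)
    (hcard : Nat.card G = 8 * k) :
    ∃ (e : Γ) (j : ℕ), e ∈ σ.ker ∧ e ^ 2 = 1 ∧ ¬ 2 ∣ j ∧ j ∣ Nat.card G ∧
      ∀ z ∈ σ.ker, z ^ j ∈ Subgroup.zpowers e := by
  set P := Subgroup.closure ({r, s} : Set G) with hP
  have hidx : ¬ 2 ∣ P.index := SL2Mult.dicyclic_index r s hns hsr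
    (by rw [hs]; exact one_mem _) hk (by rw [hcard, hr])
  obtain ⟨a, ha⟩ := hσ.1 r
  obtain ⟨b, hb⟩ := hσ.1 s
  set c := b * a * b⁻¹ * a with hc
  have hcz : ∀ y, Commute c y := fun y => SchurBound.commute_of_mem_ker σ hσ.2.1
    (by simp [hc, map_mul, map_inv, ha, hb, hsr]) y
  set e := b * a * b⁻¹ * a⁻¹ with he
  have he2 : e = c * (a⁻¹ * a⁻¹) := by simp only [hc, he]; group
  have hbab : b * a * b⁻¹ = c * a⁻¹ := by simp only [hc]; group
  have hea : a * e * a⁻¹ = e := by
    rw [he2, ← mul_assoc a, ← (hcz a).eq]; group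
  have hbai : b * a⁻¹ * b⁻¹ = a * c⁻¹ := by
    rw [show b * a⁻¹ * b⁻¹ = (b * a * b⁻¹)⁻¹ by group, hbab]; group
  have heb : b * e * b⁻¹ = e⁻¹ := by
    have h1 : b * c * b⁻¹ = c := by rw [← (hcz b).eq, mul_inv_cancel_right]
    calc b * e * b⁻¹ = (b * c * b⁻¹) * ((b * a⁻¹ * b⁻¹) * (b * a⁻¹ * b⁻¹)) := by
          rw [he2]; group
      _ = c * ((c⁻¹ * a) * (c⁻¹ * a)) := by rw [h1, hbai, ← (hcz a).inv_left.eq]
      _ = a * (c⁻¹ * a) := by group
      _ = a * (a * c⁻¹) := by rw [(hcz a).inv_left.eq]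
      _ = e⁻¹ := by rw [he2]; simp only [mul_inv_rev, inv_inv, mul_assoc]
  have hσe : σ e = r⁻¹ * r⁻¹ := by simp [he, map_mul, map_inv, ha, hb, hsr]
  have hem : e ^ 4 = 1 := by
    have hk4 : σ (a ^ 4) = 1 := by rw [map_pow, ha, ← hr, pow_orderOf_eq_one]
    have hca := SchurBound.commute_of_mem_ker σ hσ.2.1 hk4 b
    have hbam : b * a ^ 4 * b⁻¹ = a ^ 4 := by rw [← hca.eq, mul_inv_cancel_right]
    have h2 : (c * a⁻¹) ^ 4 = a ^ 4 := by rw [← hbab, conj_pow, hbam]
    rw [(hcz _).mul_pow, inv_pow, mul_inv_eq_iff_eq_mul] at h2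
    rw [he2, (hcz _).mul_pow, (Commute.refl a⁻¹).mul_pow, inv_pow, h2]
    group
  set H := P.comap σ with hH
  have haH : a ∈ H := by rw [hH, Subgroup.mem_comap, ha]; exact Subgroup.subset_closure (by simp)
  have hbH : b ∈ H := by rw [hH, Subgroup.mem_comap, hb]; exact Subgroup.subset_closure (by simp)
  have hle : ⁅H, H⁆ ≤ Subgroup.zpowers e := by
    have hgen : Subgroup.closure ({⟨a, haH⟩, ⟨b, hbH⟩} ∪ (Subgroup.center H : Set H)) = ⊤ := by
      refine CfsgLib.SchurTheory.closure_union_center_eq_top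
        ((σ.comp H.subtype).codRestrict P (fun x => x.2)) ?_ ?_
      · intro x hx
        rw [Subgroup.mem_center_iff]
        intro y
        exact Subtype.ext (SchurBound.commute_of_mem_ker σ hσ.2.1
          (congrArg Subtype.val hx) (y : Γ)).symm.eq
      · rw [← Subgroup.map_injective (Subgroup.subtype_injective _) |>.eq_iff,
          MonoidHom.map_closure, Set.image_pair, ← MonoidHom.range_eq_map, Subgroup.range_subtype]
        show Subgroup.closure ({σ a, σ b} : Set G) = _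
        rw [ha, hb]
    have hmem : (⟨e, H.mul_mem (H.mul_mem (H.mul_mem hbH haH) (H.inv_mem hbH)) (H.inv_mem haH)⟩ : H) =
        ⁅(⟨b, hbH⟩ : H), (⟨a, haH⟩ : H)⁆ := Subtype.ext rfl
    have key := CfsgLib.SchurTheory.commutator_le_zpowers hgen hmem.symm
      (by rw [Subgroup.mem_zpowers_iff]; exact ⟨1, Subtype.ext (by simp [hea])⟩)
      (by rw [Subgroup.mem_zpowers_iff]; exact ⟨-1, Subtype.ext (by simp [heb])⟩)
      (isOfFinOrder_of_finite _)
    rw [Subgroup.commutator_le]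
    intro x hx y hy
    obtain ⟨k, hk⟩ := Subgroup.mem_zpowers_iff.1 (key
      (Subgroup.commutator_mem_commutator (Subgroup.mem_top (⟨x, hx⟩ : H))
        (Subgroup.mem_top (⟨y, hy⟩ : H))))
    exact Subgroup.mem_zpowers_iff.2
      ⟨k, by simpa [commutatorElement_def] using congrArg Subtype.val hk⟩
  have he4 : e ^ 2 ∈ σ.ker := by
    rw [MonoidHom.mem_ker, map_pow, hσe,
      show (r⁻¹ * r⁻¹) ^ 2 = (r ^ 4)⁻¹ by group, ← hr, pow_orderOf_eq_one, inv_one]
  refine ⟨e ^ 2, P.index, he4, by rw [← pow_mul]; exact hem, hidx, P.index_dvd_card,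
    fun z hz => ?_⟩
  have h := Schur.pow_index_mem_commutator H (hσ.2.1 hz) (hσ.2.2 hz)
  rw [hH, Subgroup.index_comap_of_surjective _ hσ.1] at h
  obtain ⟨i, hi⟩ := Subgroup.mem_zpowers_iff.1 (hle h)
  have h1 : σ (e ^ i) = 1 := by rw [hi, map_pow, hz, one_pow]
  rw [map_zpow, hσe, ← pow_two, inv_pow, inv_zpow, inv_eq_one, ← zpow_natCast, ← zpow_mul,
    ← orderOf_dvd_iff_zpow_eq_one, hr] at h1
  obtain ⟨l, rfl⟩ : (2 : ℤ) ∣ i := by omega
  refine Subgroup.mem_zpowers_iff.2 ⟨l, ?_⟩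
  rw [← hi, zpow_mul, zpow_ofNat]

theorem exists_hom_onto {Γ : Type*} [Group Γ] (K : Subgroup Γ) {e : Γ} (he : e ∈ K) {n : ℕ}
    (hn : e ^ n = 1) (h : ∀ z ∈ K, z ∈ Subgroup.zpowers e) :
    ∃ π : Multiplicative (ZMod n) →* K, Function.Surjective π := by
  set e' : K := ⟨e, he⟩
  have hpow : e' ^ n = 1 := Subtype.ext hn
  refine ⟨AddMonoidHom.toMultiplicativeLeft (ZMod.lift n
    ⟨zmultiplesHom (Additive K) (Additive.ofMul e'), ?_⟩), fun z => ?_⟩
  · simp only [zmultiplesHom_apply, natCast_zsmul]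
    rw [← ofMul_pow, hpow]; rfl
  · obtain ⟨k, hk⟩ := Subgroup.mem_zpowers_iff.1 (h z z.2)
    refine ⟨Multiplicative.ofAdd (k : ZMod n), ?_⟩
    simp only [AddMonoidHom.toMultiplicativeLeft_apply_apply, toAdd_ofAdd, ZMod.lift_coe,
      zmultiplesHom_apply, ← ofMul_zpow, toMul_ofMul]
    exact Subtype.ext hk

end CfsgLib.AltCover
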