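import Cfsg.Agent.AltCover.Models

/-!
Stem extensions with kernel cyclic of order six, respectively three, of perfect groups mapped to `S₇`.
-/

set_option autoImplicit false
set_option linter.style.haveILetI false

namespace CfsgLib.AltCover

open scoped commutatorElement
open Equiv

theorem s3_sq : ∀ i, s3 i * s3 i = 1 := by decide +kernel

theorem s2_sq : ∀ i, s2 i * s2 i = 1 := by decide +kernel

theorem z3_cube : z3 * z3 * z3 = 1 := by decide +kernel

/-- units of the three-part -/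
abbrev G3 := (Matrix (Fin 6) (Fin 6) (ZMod 5))ˣ

/-- units of the two-part -/
abbrev G2 := (Matrix (Fin 8) (Fin 8) (ZMod 17))ˣ

/-- lift in the three-part -/
def u3 (i : Fin 6) : G3 := ⟨s3 i, s3 i, s3_sq i, s3_sq i⟩

/-- lift in the two-part -/
def u2 (i : Fin 6) : G2 := ⟨s2 i, s2 i, s2_sq i, s2_sq i⟩

/-- the scalar of order three -/
def w3 : G3 :=
  ⟨z3, z3 * z3, by rw [← mul_assoc]; exact z3_cube, z3_cube⟩

theorem w3_nor : ∀ i, s3 i * z3 * s3 i = z3 ∨ s3 i * z3 * s3 i = z3 * z3 := by decide +kernel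

theorem w3_braid : ∀ i j : Fin 6, j.val = i.val + 1 →
    (s3 i * s3 j * s3 i * s3 j * s3 i * s3 j = 1 ∨ s3 i * s3 j * s3 i * s3 j * s3 i * s3 j = z3 ∨
      s3 i * s3 j * s3 i * s3 j * s3 i * s3 j = z3 * z3) := by decide +kernel

theorem w3_comm : ∀ i j : Fin 6, i.val + 1 < j.val →
    (s3 i * s3 j * s3 i * s3 j = 1 ∨ s3 i * s3 j * s3 i * s3 j = z3 ∨
      s3 i * s3 j * s3 i * s3 j = z3 * z3) := by decide +kernel

theorem w2_braid : ∀ i j : Fin 6, j.val = i.val + 1 →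
    (s2 i * s2 j * s2 i * s2 j * s2 i * s2 j = 1 ∨
      s2 i * s2 j * s2 i * s2 j * s2 i * s2 j = -1) := by decide +kernel

theorem w2_comm : ∀ i j : Fin 6, i.val + 1 < j.val →
    (s2 i * s2 j * s2 i * s2 j = 1 ∨ s2 i * s2 j * s2 i * s2 j = -1) := by decide +kernel

theorem mem_zpowers_w3 {x : G3} (h : (x : Matrix (Fin 6) (Fin 6) (ZMod 5)) = 1 ∨
    (x : Matrix (Fin 6) (Fin 6) (ZMod 5)) = z3 ∨
    (x : Matrix (Fin 6) (Fin 6) (ZMod 5)) = z3 * z3) : x ∈ Subgroup.zpowers w3 := by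
  rcases h with h | h | h
  · rw [show x = 1 from Units.ext h]; exact one_mem _
  · rw [show x = w3 from Units.ext h]; exact Subgroup.mem_zpowers w3
  · rw [show x = w3 * w3 from Units.ext h]
    exact mul_mem (Subgroup.mem_zpowers w3) (Subgroup.mem_zpowers w3)

theorem mem_zpowers_neg {x : G2} (h : (x : Matrix (Fin 8) (Fin 8) (ZMod 17)) = 1 ∨
    (x : Matrix (Fin 8) (Fin 8) (ZMod 17)) = -1) : x ∈ Subgroup.zpowers (-1 : G2) := by
  rcases h with h | h
  · rw [show x = 1 from Units.ext h]; exact one_mem _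
  · rw [show x = -1 from Units.ext h]; exact Subgroup.mem_zpowers _

theorem w3_pow : w3 ^ 3 = 1 := by
  apply Units.ext
  simp only [pow_succ, pow_zero, one_mul, Units.val_mul, Units.val_one]
  exact z3_cube

theorem w3_ne : w3 ≠ 1 := fun h =>
  (show z3 ≠ 1 by decide +kernel) (congrArg Units.val h)

theorem neg_one_ne : (-1 : G2) ≠ 1 := fun h =>
  (show (-1 : Matrix (Fin 8) (Fin 8) (ZMod 17)) ≠ 1 by decide +kernel) (congrArg Units.val h)

/-- generator of the cyclic group of order six -/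
def w6 : G3 × G2 := (w3, -1)

theorem orderOf_w6 : orderOf w6 = 6 := by
  haveI := Fact.mk Nat.prime_three
  haveI := Fact.mk Nat.prime_two
  rw [w6, Prod.orderOf, orderOf_eq_prime w3_pow w3_ne,
    orderOf_eq_prime (by rw [neg_one_sq]) neg_one_ne]
  rfl

theorem prod_mem_zpowers {a : G3} {b : G2} (ha : a ∈ Subgroup.zpowers w3)
    (hb : b ∈ Subgroup.zpowers (-1 : G2)) : (a, b) ∈ Subgroup.zpowers w6 := by
  have e1 : ((w3, 1) : G3 × G2) ∈ Subgroup.zpowers w6 := ⟨4, by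
    show w6 ^ ((4 : ℕ) : ℤ) = _
    rw [zpow_natCast]
    refine Prod.ext ?_ ?_
    · show w3 ^ (3 + 1) = w3
      rw [pow_add, w3_pow, one_mul, pow_one]
    · show (-1 : G2) ^ (2 * 2) = 1
      rw [pow_mul, neg_one_sq, one_pow]⟩
  have e2 : ((1, -1) : G3 × G2) ∈ Subgroup.zpowers w6 := ⟨3, by
    show w6 ^ ((3 : ℕ) : ℤ) = _
    rw [zpow_natCast]
    refine Prod.ext w3_pow ?_
    show (-1 : G2) ^ 3 = -1
    rw [pow_succ, neg_one_sq, one_mul]⟩
  obtain ⟨i, rfl⟩ := ha
  obtain ⟨j, rfl⟩ := hb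
  have := mul_mem (zpow_mem e1 i) (zpow_mem e2 j)
  simpa using this

theorem modRels6 : ModRels w6 (fun i => (u3 i, u2 i)) where
  sq i := Prod.ext (Units.ext (s3_sq i)) (Units.ext (s2_sq i))
  nor i := prod_mem_zpowers
    (mem_zpowers_w3 (x := u3 i * w3 * u3 i) (Or.inr (w3_nor i)))
    (mem_zpowers_neg (x := u2 i * -1 * u2 i) (Or.inr (by
      show s2 i * -1 * s2 i = -1
      rw [mul_neg_one, neg_mul, s2_sq])))
  braid i j h := prod_mem_zpowers (mem_zpowers_w3 (w3_braid i j h))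
    (mem_zpowers_neg (w2_braid i j h))
  comm i j h := prod_mem_zpowers (mem_zpowers_w3 (w3_comm i j h))
    (mem_zpowers_neg (w2_comm i j h))

theorem modRels3 : ModRels w3 u3 where
  sq i := Units.ext (s3_sq i)
  nor i := mem_zpowers_w3 (x := u3 i * w3 * u3 i) (Or.inr (w3_nor i))
  braid i j h := mem_zpowers_w3 (w3_braid i j h)
  comm i j h := mem_zpowers_w3 (w3_comm i j h)

/-- adjacent transposition of seven points -/
def sw (i : Fin 6) : Perm (Fin 7) := swap i.castSucc i.succ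

theorem wit3 : s3 0 * s3 1 * (s3 3 * s3 4) * (s3 1 * s3 0) * (s3 4 * s3 3) = z3 := by decide +kernel

theorem wit2 : s2 0 * s2 1 * (s2 3 * s2 4) * (s2 1 * s2 0) * (s2 4 * s2 3) = 1 := by decide +kernel

theorem wit3' : s3 0 * s3 2 * (s3 1 * s3 0 * s3 2 * s3 1) * (s3 2 * s3 0) *
    (s3 1 * s3 2 * s3 0 * s3 1) = 1 := by decide +kernel

theorem wit2' : s2 0 * s2 2 * (s2 1 * s2 0 * s2 2 * s2 1) * (s2 2 * s2 0) *
    (s2 1 * s2 2 * s2 0 * s2 1) = -1 := by decide +kernel

theorem cent3 : ∀ i j : Fin 6, z3 * (s3 i * s3 j) = s3 i * s3 j * z3 := by decide +kernel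

/-- the two commuting three-cycles and the Klein four-group, as products of adjacent swaps -/
structure Witness {Q : Type*} [Group Q] (g : Q →* Perm (Fin 7)) where
  a : Q
  b : Q
  c : Q
  d : Q
  ha : g a = sw 0 * sw 1
  hb : g b = sw 3 * sw 4
  hc : g c = sw 0 * sw 2
  hd : g d = sw 1 * sw 0 * sw 2 * sw 1
  hab : Commute a b
  hcd : Commute c d

universe u

/-- a stem extension with cyclic kernel of order six -/
theorem exists_stem_six {Q : Type u} [Group Q] [Finite Q] (g : Q →* Perm (Fin 7))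
    (hQ : commutator Q = ⊤) (W : Witness g) :
    ∃ (Γ : Type u) (_ : Group Γ) (_ : Finite Γ) (σ : Γ →* Q),
      Cfsg.IsStemExtension σ ∧ Nonempty (σ.ker ≃* Multiplicative (ZMod 6)) := by
  obtain ⟨f, hf⟩ := modRels6.exists_hom
  let T : Fin 6 → NN w6 := fun i => ⟨_, modRels6.mem i⟩
  have hfT : ∀ i, f (sw i) = (T i : NN w6 ⧸ Subgroup.zpowers (zz w6)) := hf
  have hcent : ∀ i j, zz w6 * (T i * T j) = T i * T j * zz w6 := fun i j =>
    Subtype.ext (Prod.ext (Units.ext (cent3 i j))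
      (show (-1 : G2) * (u2 i * u2 j) = u2 i * u2 j * -1 by rw [neg_one_mul, mul_neg_one]))
  have hcent4 : ∀ i j k l, zz w6 * (T i * T j * T k * T l) = T i * T j * T k * T l * zz w6 := by
    intro i j k l
    have := (show Commute (zz w6) (T i * T j) from hcent i j).mul_right
      (show Commute (zz w6) (T k * T l) from hcent k l)
    simpa only [mul_assoc] using this.eq
  have hlift := lift_centralizes g hQ f
  have hwit : ((1 : Q), zz w6) ∈ core (zz w6) (f.comp g) := by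
    have mA : (W.a, T 0 * T 1) ∈ pullback (zz w6) (f.comp g) :=
      (mem_pullback _ _).2 ⟨by simp [W.ha, hfT], hcent 0 1⟩
    have mB : (W.b, T 3 * T 4) ∈ pullback (zz w6) (f.comp g) :=
      (mem_pullback _ _).2 ⟨by simp [W.hb, hfT], hcent 3 4⟩
    have mC : (W.c, T 0 * T 2) ∈ pullback (zz w6) (f.comp g) :=
      (mem_pullback _ _).2 ⟨by simp [W.hc, hfT], hcent 0 2⟩
    have mD : (W.d, T 1 * T 0 * T 2 * T 1) ∈ pullback (zz w6) (f.comp g) :=
      (mem_pullback _ _).2 ⟨by simp [W.hd, hfT], hcent4 1 0 2 1⟩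
    have h1 := commutator_mem_core _ _ mA mB W.hab
    have h2 := commutator_mem_core _ _ mC mD W.hcd
    have := (core (zz w6) (f.comp g)).mul_mem h1 h2
    convert this using 1
    refine Prod.ext (one_mul _).symm (Subtype.ext (Prod.ext (Units.ext ?_) (Units.ext ?_)))
    · show z3 = s3 0 * s3 1 * (s3 3 * s3 4) * (s3 1 * s3 0) * (s3 4 * s3 3) *
        (s3 0 * s3 2 * (s3 1 * s3 0 * s3 2 * s3 1) * (s3 2 * s3 0) *
          (s3 1 * (s3 2 * (s3 0 * s3 1))))
      rw [wit3, show s3 1 * (s3 2 * (s3 0 * s3 1)) = s3 1 * s3 2 * s3 0 * s3 1 by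
        simp only [mul_assoc], wit3', mul_one]
    · show (-1 : Matrix (Fin 8) (Fin 8) (ZMod 17)) =
        s2 0 * s2 1 * (s2 3 * s2 4) * (s2 1 * s2 0) * (s2 4 * s2 3) *
        (s2 0 * s2 2 * (s2 1 * s2 0 * s2 2 * s2 1) * (s2 2 * s2 0) *
          (s2 1 * (s2 2 * (s2 0 * s2 1))))
      rw [wit2, show s2 1 * (s2 2 * (s2 0 * s2 1)) = s2 1 * s2 2 * s2 0 * s2 1 by
        simp only [mul_assoc], wit2', one_mul]
  obtain ⟨hst, ⟨e⟩⟩ := exists_stem (zz w6) (f.comp g) hlift hQ hwit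
  have ho : orderOf (zz w6) = 6 := by
    rw [← Subgroup.orderOf_coe]; exact orderOf_w6
  exact ⟨core (zz w6) (f.comp g), inferInstance, inferInstance, _, hst, 
    ⟨e.trans (MulEquiv.cast (M := fun n => Multiplicative (ZMod n)) ho)⟩⟩

/-- a stem extension with cyclic kernel of order three; the lifts need only commute up to an
involution -/
theorem exists_stem_three {Q : Type u} [Group Q] [Finite Q] (g : Q →* Perm (Fin 7))
    (hQ : commutator Q = ⊤) (a b : Q) (ha : g a = sw 0 * sw 1) (hb : g b = sw 3 * sw 4)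
    (hab : ⁅a, b⁆ ^ 4 = 1) :
    ∃ (Γ : Type u) (_ : Group Γ) (_ : Finite Γ) (σ : Γ →* Q),
      Cfsg.IsStemExtension σ ∧ Nonempty (σ.ker ≃* Multiplicative (ZMod 3)) := by
  obtain ⟨f, hf⟩ := modRels3.exists_hom
  let T : Fin 6 → NN w3 := fun i => ⟨_, modRels3.mem i⟩
  have hfT : ∀ i, f (sw i) = (T i : NN w3 ⧸ Subgroup.zpowers (zz w3)) := hf
  have hcent : ∀ i j, zz w3 * (T i * T j) = T i * T j * zz w3 := fun i j =>
    Subtype.ext (Units.ext (cent3 i j))
  have hwit : ((1 : Q), zz w3) ∈ core (zz w3) (f.comp g) := by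
    have mA : (a, T 0 * T 1) ∈ pullback (zz w3) (f.comp g) :=
      (mem_pullback _ _).2 ⟨by simp [ha, hfT], hcent 0 1⟩
    have mB : (b, T 3 * T 4) ∈ pullback (zz w3) (f.comp g) :=
      (mem_pullback _ _).2 ⟨by simp [hb, hfT], hcent 3 4⟩
    have h := (core (zz w3) (f.comp g)).pow_mem (Subgroup.commutator_mem_commutator mA mB) 4
    convert h using 1
    refine Prod.ext hab.symm ?_
    have e : ⁅T 0 * T 1, T 3 * T 4⁆ = zz w3 := Subtype.ext (Units.ext wit3)
    show zz w3 = ⁅T 0 * T 1, T 3 * T 4⁆ ^ 4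
    rw [e]
    refine Subtype.ext ?_
    show w3 = w3 ^ (3 + 1)
    rw [pow_add, w3_pow, one_mul, pow_one]
  obtain ⟨hst, ⟨e⟩⟩ := exists_stem (zz w3) (f.comp g) (lift_centralizes g hQ f) hQ hwit
  have ho : orderOf (zz w3) = 3 := by
    haveI := Fact.mk Nat.prime_three
    rw [← Subgroup.orderOf_coe]; exact orderOf_eq_prime w3_pow w3_ne
  exact ⟨core (zz w3) (f.comp g), inferInstance, inferInstance, _, hst, 
    ⟨e.trans (MulEquiv.cast (M := fun n => Multiplicative (ZMod n)) ho)⟩⟩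

end CfsgLib.AltCover
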