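import Mathlib

/-!
Matrices: semilinear `3.S₇` in dimension three over the field of 25 elements, written over the
prime field, and the spin representation of `2.S₇` over the field of 17 elements.
-/

set_option autoImplicit false

namespace CfsgLib.AltCover

/-- the scalar of order three -/
def z3 : Matrix (Fin 6) (Fin 6) (ZMod 5) :=
  !![0, 4, 0, 0, 0, 0;
    1, 4, 0, 0, 0, 0;
    0, 0, 0, 4, 0, 0;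
    0, 0, 1, 4, 0, 0;
    0, 0, 0, 0, 0, 4;
    0, 0, 0, 0, 1, 4]

/-- lift of the adjacent transposition `0` -/
def s3_0 : Matrix (Fin 6) (Fin 6) (ZMod 5) :=
  !![0, 0, 0, 0, 1, 4;
    0, 0, 0, 0, 0, 4;
    0, 0, 4, 1, 0, 0;
    0, 0, 0, 1, 0, 0;
    1, 4, 0, 0, 0, 0;
    0, 4, 0, 0, 0, 0]

/-- lift of the adjacent transposition `1` -/
def s3_1 : Matrix (Fin 6) (Fin 6) (ZMod 5) :=
  !![0, 0, 1, 4, 0, 0;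
    0, 0, 0, 4, 0, 0;
    1, 4, 0, 0, 0, 0;
    0, 4, 0, 0, 0, 0;
    0, 0, 0, 0, 4, 1;
    0, 0, 0, 0, 0, 1]

/-- lift of the adjacent transposition `2` -/
def s3_2 : Matrix (Fin 6) (Fin 6) (ZMod 5) :=
  !![0, 0, 0, 0, 4, 1;
    0, 0, 0, 0, 0, 1;
    0, 0, 4, 1, 0, 0;
    0, 0, 0, 1, 0, 0;
    4, 1, 0, 0, 0, 0;
    0, 1, 0, 0, 0, 0]

/-- lift of the adjacent transposition `3` -/
def s3_3 : Matrix (Fin 6) (Fin 6) (ZMod 5) :=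
  !![3, 2, 1, 4, 1, 4;
    0, 2, 0, 4, 0, 4;
    1, 4, 3, 2, 4, 1;
    0, 4, 0, 2, 0, 1;
    1, 4, 4, 1, 3, 2;
    0, 4, 0, 1, 0, 2]

/-- lift of the adjacent transposition `4` -/
def s3_4 : Matrix (Fin 6) (Fin 6) (ZMod 5) :=
  !![1, 4, 0, 0, 0, 0;
    0, 4, 0, 0, 0, 0;
    0, 0, 0, 1, 0, 0;
    0, 0, 1, 0, 0, 0;
    0, 0, 0, 0, 4, 0;
    0, 0, 0, 0, 4, 1]

/-- lift of the adjacent transposition `5` -/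
def s3_5 : Matrix (Fin 6) (Fin 6) (ZMod 5) :=
  !![1, 4, 0, 0, 0, 0;
    0, 4, 0, 0, 0, 0;
    0, 0, 1, 4, 0, 0;
    0, 0, 0, 4, 0, 0;
    0, 0, 0, 0, 1, 4;
    0, 0, 0, 0, 0, 4]

/-- spin lift of the adjacent transposition `0` -/
def s2_0 : Matrix (Fin 8) (Fin 8) (ZMod 17) :=
  !![0, 0, 0, 0, 15, 0, 0, 0;
    0, 0, 0, 0, 0, 15, 0, 0;
    0, 0, 0, 0, 0, 0, 15, 0;
    0, 0, 0, 0, 0, 0, 0, 15;
    8, 0, 0, 0, 0, 0, 0, 0;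
    0, 8, 0, 0, 0, 0, 0, 0;
    0, 0, 8, 0, 0, 0, 0, 0;
    0, 0, 0, 8, 0, 0, 0, 0]

/-- spin lift of the adjacent transposition `1` -/
def s2_1 : Matrix (Fin 8) (Fin 8) (ZMod 17) :=
  !![0, 0, 14, 0, 5, 0, 0, 0;
    0, 0, 0, 14, 0, 5, 0, 0;
    14, 0, 0, 0, 0, 0, 5, 0;
    0, 14, 0, 0, 0, 0, 0, 5;
    12, 0, 0, 0, 0, 0, 3, 0;
    0, 12, 0, 0, 0, 0, 0, 3;
    0, 0, 12, 0, 3, 0, 0, 0;
    0, 0, 0, 12, 0, 3, 0, 0]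

/-- spin lift of the adjacent transposition `2` -/
def s2_2 : Matrix (Fin 8) (Fin 8) (ZMod 17) :=
  !![0, 0, 15, 0, 0, 0, 0, 0;
    0, 0, 0, 15, 0, 0, 0, 0;
    8, 0, 0, 0, 0, 0, 0, 0;
    0, 8, 0, 0, 0, 0, 0, 0;
    0, 0, 0, 0, 0, 0, 2, 0;
    0, 0, 0, 0, 0, 0, 0, 2;
    0, 0, 0, 0, 9, 0, 0, 0;
    0, 0, 0, 0, 0, 9, 0, 0]

/-- spin lift of the adjacent transposition `3` -/
def s2_3 : Matrix (Fin 8) (Fin 8) (ZMod 17) :=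
  !![0, 14, 5, 0, 0, 0, 0, 0;
    14, 0, 0, 5, 0, 0, 0, 0;
    12, 0, 0, 3, 0, 0, 0, 0;
    0, 12, 3, 0, 0, 0, 0, 0;
    0, 0, 0, 0, 0, 3, 12, 0;
    0, 0, 0, 0, 3, 0, 0, 12;
    0, 0, 0, 0, 5, 0, 0, 14;
    0, 0, 0, 0, 0, 5, 14, 0]

/-- spin lift of the adjacent transposition `4` -/
def s2_4 : Matrix (Fin 8) (Fin 8) (ZMod 17) :=
  !![0, 15, 0, 0, 0, 0, 0, 0;
    8, 0, 0, 0, 0, 0, 0, 0;
    0, 0, 0, 2, 0, 0, 0, 0;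
    0, 0, 9, 0, 0, 0, 0, 0;
    0, 0, 0, 0, 0, 2, 0, 0;
    0, 0, 0, 0, 9, 0, 0, 0;
    0, 0, 0, 0, 0, 0, 0, 15;
    0, 0, 0, 0, 0, 0, 8, 0]

/-- spin lift of the adjacent transposition `5` -/
def s2_5 : Matrix (Fin 8) (Fin 8) (ZMod 17) :=
  !![14, 5, 0, 0, 0, 0, 0, 0;
    12, 3, 0, 0, 0, 0, 0, 0;
    0, 0, 3, 12, 0, 0, 0, 0;
    0, 0, 5, 14, 0, 0, 0, 0;
    0, 0, 0, 0, 3, 12, 0, 0;
    0, 0, 0, 0, 5, 14, 0, 0;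
    0, 0, 0, 0, 0, 0, 14, 5;
    0, 0, 0, 0, 0, 0, 12, 3]

/-- the lifts -/
def s3 : Fin 6 → Matrix (Fin 6) (Fin 6) (ZMod 5) := ![s3_0, s3_1, s3_2, s3_3, s3_4, s3_5]

/-- the spin lifts -/
def s2 : Fin 6 → Matrix (Fin 8) (Fin 8) (ZMod 17) := ![s2_0, s2_1, s2_2, s2_3, s2_4, s2_5]

end CfsgLib.AltCover
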