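import Cfsg.Agent.AltCover.Cover
import Cfsg.Agent.AltCover.Bounds
import Cfsg.Agent.Linear.Perfect
import Cfsg.Agent.S0254

/-!
The Schur multipliers of `A₆`, `A₇` and `SL(2,9)`.
-/

set_option autoImplicit false
set_option linter.style.haveILetI false

namespace CfsgLib.AltCover

open scoped commutatorElement
open Equiv CfsgLib

universe v

theorem exists_hom_six {G Γ : Type v} [Group G] [Finite G] [Group Γ] [Finite Γ] (σ : Γ →* G)
    (hσ : Cfsg.IsStemExtension σ) {a b r s : G} (ha : orderOf a = 3) (hb : orderOf b = 3)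
    (hab : Commute a b) (hba : b ∉ Subgroup.zpowers a) (h27 : ¬ 27 ∣ Nat.card G)
    (hr : orderOf r = 4) (hsr : s * r * s⁻¹ = r⁻¹) (hs : s * s = 1)
    (hns : s ∉ Subgroup.zpowers r) {k : ℕ} (hk : Odd k) (hcard : Nat.card G = 8 * k)
    (hp : ∀ p : ℕ, p.Prime → p ∣ Nat.card G → p ≠ 2 → p ≠ 3 →
      ∃ g : G, ¬ p ∣ (Subgroup.zpowers g).index) :
    ∃ π : Multiplicative (ZMod 6) →* σ.ker, Function.Surjective π := by
  obtain ⟨e, j, he, he3, hj, hjd, hej⟩ := three_part σ hσ ha hb hab hba h27
  obtain ⟨f, l, hf, hf2, hl, hld, hfl⟩ := two_part σ hσ hr hsr hs hns hk hcard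
  have hpr : ∀ p : ℕ, p.Prime → p ∣ Nat.card σ.ker → p = 2 ∨ p = 3 := by
    intro p hp' hd
    haveI := Fact.mk hp'
    by_contra hne
    push Not at hne
    obtain ⟨g, hg⟩ := hp p hp' (Schur.prime_dvd_card_of_dvd_card_ker σ hσ hd) hne.1 hne.2
    exact Schur.not_dvd_card_ker_of_exponent_p
      (fun _ _ _ τ hτ hexp => Schur.ker_eq_bot_of_index_zpowers hp' g hg τ hτ hexp) σ hσ hd
  have hc : Commute e f := (SchurBound.commute_of_mem_ker σ hσ.2.1 he f)
  have he' : e ∈ Subgroup.zpowers (e * f) := ⟨4, by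
    show (e * f) ^ ((4 : ℕ) : ℤ) = e
    rw [zpow_natCast, hc.mul_pow, show 4 = 2 * 2 from rfl, pow_mul f, hf2, one_pow, mul_one,
      show 2 * 2 = 3 + 1 from rfl, pow_add, he3, one_mul, pow_one]⟩
  have hf' : f ∈ Subgroup.zpowers (e * f) := ⟨3, by
    show (e * f) ^ ((3 : ℕ) : ℤ) = f
    rw [zpow_natCast, hc.mul_pow, he3, one_mul, pow_succ, hf2, one_mul]⟩
  refine exists_hom_onto σ.ker (σ.ker.mul_mem he hf) (n := 6)
    (by rw [hc.mul_pow, show 6 = 3 * 2 from rfl, pow_mul, he3, one_pow, one_mul, mul_comm 3,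
      pow_mul, hf2, one_pow]) fun z hz => ?_
  have hzj : z ^ j ∈ Subgroup.zpowers (e * f) :=
    (Subgroup.zpowers_le.2 he') (hej z hz)
  have hzl : z ^ l ∈ Subgroup.zpowers (e * f) :=
    (Subgroup.zpowers_le.2 hf') (hfl z hz)
  have hg : (Nat.gcd j l).Coprime (orderOf z) := by
    refine Nat.coprime_of_dvd fun p hp' h1 h2 => ?_
    have hd : p ∣ Nat.card σ.ker := by
      have hd2 : orderOf (⟨z, hz⟩ : σ.ker) ∣ Nat.card σ.ker := orderOf_dvd_natCard _
      rw [← Subgroup.orderOf_coe] at hd2
      exact h2.trans hd2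
    rcases hpr p hp' hd with rfl | rfl
    · exact hl (h1.trans (Nat.gcd_dvd_right j l))
    · exact hj (h1.trans (Nat.gcd_dvd_left j l))
  obtain ⟨i, hi⟩ := exists_pow_eq_self_of_coprime hg
  rw [← hi]
  refine pow_mem ?_ i
  have hbez := Nat.gcd_eq_gcd_ab j l
  rw [← zpow_natCast, hbez, zpow_add, zpow_mul, zpow_mul, zpow_natCast, zpow_natCast]
  exact mul_mem (zpow_mem hzj _) (zpow_mem hzl _)

/-- `A₆` inside the permutations of seven points -/
def up6 : alternatingGroup (Fin 6) →* Perm (Fin 7) :=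
  (Equiv.Perm.extendDomainHom
    (p := fun x : Fin 7 => x.val < 6)
    { toFun := fun i => ⟨i.castSucc, i.isLt⟩
      invFun := fun x => ⟨x.1.val, x.2⟩
      left_inv := fun _ => rfl
      right_inv := fun _ => rfl }).comp (alternatingGroup (Fin 6)).subtype

/-- even product of two transpositions -/
def e6 (a b c d : Fin 6) (h : Perm.sign (swap a b * swap c d) = 1 := by decide) :
    alternatingGroup (Fin 6) := ⟨swap a b * swap c d, Perm.mem_alternatingGroup.2 h⟩

/-- even product of two transpositions -/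
def e7 (a b c d : Fin 7) (h : Perm.sign (swap a b * swap c d) = 1 := by decide) :
    alternatingGroup (Fin 7) := ⟨swap a b * swap c d, Perm.mem_alternatingGroup.2 h⟩

/-- witnesses in `A₆` -/
def wit6 : Witness up6 where
  a := e6 0 1 1 2
  b := e6 3 4 4 5
  c := e6 0 1 2 3
  d := e6 0 2 1 3
  ha := by decide +kernel
  hb := by decide +kernel
  hc := by decide +kernel
  hd := by decide +kernel
  hab := by unfold Commute SemiconjBy; decide +kernel
  hcd := by unfold Commute SemiconjBy; decide +kernel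

/-- witnesses in `A₇` -/
def wit7 : Witness (alternatingGroup (Fin 7)).subtype where
  a := e7 0 1 1 2
  b := e7 3 4 4 5
  c := e7 0 1 2 3
  d := e7 0 2 1 3
  ha := by decide +kernel
  hb := by decide +kernel
  hc := by decide +kernel
  hd := by decide +kernel
  hab := by unfold Commute SemiconjBy; decide +kernel
  hcd := by unfold Commute SemiconjBy; decide +kernel

theorem orderOf_eq_three {G : Type*} [Group G] {x : G} (h1 : x * x * x = 1) (h2 : x ≠ 1) :
    orderOf x = 3 := by
  haveI := Fact.mk Nat.prime_three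
  exact orderOf_eq_prime (by rw [pow_succ, pow_two]; exact h1) h2

theorem orderOf_eq_four {G : Type*} [Group G] {x : G} (h1 : x * x * (x * x) = 1)
    (h2 : x * x ≠ 1) : orderOf x = 4 := by
  haveI := Fact.mk Nat.prime_two
  refine orderOf_eq_prime_pow (p := 2) (n := 1) ?_ ?_
  · rwa [pow_one, pow_two]
  · rw [show 2 ^ (1 + 1) = 2 * 2 from rfl, pow_mul, pow_two, pow_two]; exact h1

theorem not_mem_zpowers_of_three {G : Type*} [Group G] [Finite G] {a b : G} (ha : orderOf a = 3)
    (h : b ≠ 1 ∧ b ≠ a ∧ b ≠ a * a) : b ∉ Subgroup.zpowers a := by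
  classical
  intro hb
  rw [← mem_powers_iff_mem_zpowers] at hb
  obtain ⟨i, hi⟩ := hb
  change a ^ i = b at hi
  rw [← pow_mod_orderOf, ha] at hi
  have := Nat.mod_lt i (show 0 < 3 by norm_num)
  interval_cases (i % 3)
  · exact h.1 (by rw [← hi, pow_zero])
  · exact h.2.1 (by rw [← hi, pow_one])
  · exact h.2.2 (by rw [← hi, pow_two])

theorem not_mem_zpowers_of_four {G : Type*} [Group G] [Finite G] {a b : G} (ha : orderOf a = 4)
    (h : b ≠ 1 ∧ b ≠ a ∧ b ≠ a * a ∧ b ≠ a * a * a) : b ∉ Subgroup.zpowers a := by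
  classical
  intro hb
  rw [← mem_powers_iff_mem_zpowers] at hb
  obtain ⟨i, hi⟩ := hb
  change a ^ i = b at hi
  rw [← pow_mod_orderOf, ha] at hi
  have := Nat.mod_lt i (show 0 < 4 by norm_num)
  interval_cases (i % 4)
  · exact h.1 (by rw [← hi, pow_zero])
  · exact h.2.1 (by rw [← hi, pow_one])
  · exact h.2.2.1 (by rw [← hi, pow_two])
  · exact h.2.2.2 (by rw [← hi, pow_succ, pow_two])

theorem exists_prime_witness {n : ℕ} (hn : 5 ≤ n) (hn' : n ≤ 7) {p : ℕ} (hp : p.Prime)
    (hd : p ∣ Nat.card (alternatingGroup (Fin n))) (h2 : p ≠ 2) (h3 : p ≠ 3) :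
    ∃ g : alternatingGroup (Fin n), ¬ p ∣ (Subgroup.zpowers g).index := by
  haveI := Fact.mk hp
  haveI : Nontrivial (Fin n) := Fin.nontrivial_iff_two_le.2 (by omega)
  obtain ⟨g, hg⟩ := exists_prime_orderOf_dvd_card' p hd
  refine ⟨g, fun hdiv => ?_⟩
  have h1 : p * p ∣ Nat.card (alternatingGroup (Fin n)) := by
    rw [← (Subgroup.zpowers g).card_mul_index, Nat.card_zpowers, hg]
    exact mul_dvd_mul_left p hdiv
  have h4 : p * p ∣ n.factorial := by
    refine h1.trans ?_
    have := (alternatingGroup (Fin n)).card_subgroup_dvd_card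
    rwa [Nat.card_perm, Nat.card_fin] at this
  have h5 : p * p ∣ Nat.factorial 7 := h4.trans (Nat.factorial_dvd_factorial hn')
  have h6 : p ≤ 7 := (hp.dvd_factorial).1 ((dvd_mul_right p p).trans h5)
  interval_cases p <;> first | omega | exact absurd h5 (by decide) | exact absurd hp (by decide)

theorem card_alt (n k : ℕ) (hn : 2 ≤ n) (h : n.factorial = 2 * k) :
    Nat.card (alternatingGroup (Fin n)) = k := by
  haveI : Nontrivial (Fin n) := Fin.nontrivial_iff_two_le.2 hn
  rw [nat_card_alternatingGroup, Nat.card_fin, h]; omega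

theorem hasCyclicSchurMultiplier_alt_six :
    Cfsg.HasCyclicSchurMultiplier (alternatingGroup (Fin 6)) 6 := by
  refine ⟨exists_stem_six up6 (commutator_alternatingGroup_eq_top (by simp)) wit6,
    fun Γ _ _ σ hσ => ?_⟩
  have hc := card_alt 6 360 (by norm_num) (by decide)
  let a := e6 0 1 1 2
  let b := e6 3 4 4 5
  have ha : orderOf a = 3 := orderOf_eq_three (by decide +kernel) (by decide +kernel)
  have hb : orderOf b = 3 := orderOf_eq_three (by decide +kernel) (by decide +kernel)
  let r := e6 0 1 1 2 * e6 2 3 4 5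
  have hr : orderOf r = 4 := orderOf_eq_four (by decide +kernel) (by decide +kernel)
  exact exists_hom_six σ hσ (r := r) (s := e6 0 2 4 5) ha hb wit6.hab
    (not_mem_zpowers_of_three ha (by decide +kernel)) (by rw [hc]; norm_num) hr
    (by decide +kernel) (by decide +kernel) (not_mem_zpowers_of_four hr (by decide +kernel))
    (k := 45) (by decide) (by rw [hc])
    fun p hp hd h2 h3 => exists_prime_witness (by norm_num) (by norm_num) hp hd h2 h3

theorem hasCyclicSchurMultiplier_alt_seven :
    Cfsg.HasCyclicSchurMultiplier (alternatingGroup (Fin 7)) 6 := by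
  refine ⟨exists_stem_six _ (commutator_alternatingGroup_eq_top (by simp)) wit7,
    fun Γ _ _ σ hσ => ?_⟩
  have hc := card_alt 7 2520 (by norm_num) (by decide)
  let a := e7 0 1 1 2
  let b := e7 3 4 4 5
  have ha : orderOf a = 3 := orderOf_eq_three (by decide +kernel) (by decide +kernel)
  have hb : orderOf b = 3 := orderOf_eq_three (by decide +kernel) (by decide +kernel)
  let r := e7 0 1 1 2 * e7 2 3 4 5
  have hr : orderOf r = 4 := orderOf_eq_four (by decide +kernel) (by decide +kernel)
  exact exists_hom_six σ hσ (r := r) (s := e7 0 2 4 5) ha hb wit7.hab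
    (not_mem_zpowers_of_three ha (by decide +kernel)) (by rw [hc]; norm_num) hr
    (by decide +kernel) (by decide +kernel) (not_mem_zpowers_of_four hr (by decide +kernel))
    (k := 315) (by decide) (by rw [hc])
    fun p hp hd h2 h3 => exists_prime_witness (by norm_num) (by norm_num) hp hd h2 h3

section SLTwo

open scoped MatrixGroups
universe u
variable {F : Type u} [Field F] [Fintype F]

theorem commutator_sl_two (h4 : 4 ≤ Fintype.card F) : commutator SL(2, F) = ⊤ := by
  classical
  obtain ⟨μ, hμ⟩ : ∃ μ : Fˣ, (μ : F) ^ 2 ≠ 1 := by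
    have : ({0, 1, -1} : Finset F).card < (Finset.univ : Finset F).card := by
      rw [Finset.card_univ]
      exact lt_of_le_of_lt (Finset.card_le_three) h4
    obtain ⟨x, -, hx⟩ := Finset.exists_mem_notMem_of_card_lt_card this
    simp only [Finset.mem_insert, Finset.mem_singleton, not_or] at hx
    exact ⟨Units.mk0 x hx.1, fun h => by
      rcases sq_eq_one_iff.1 h with h' | h'
      · exact hx.2.1 h'
      · exact hx.2.2 h'⟩
  have hd : (μ : F) ^ 2 - 1 ≠ 0 := sub_ne_zero.2 hμ
  have hup : ∀ a : F, SL2Mult.up a ∈ commutator SL(2, F) := by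
    intro a
    have e : ⁅SL2Mult.torusHom F μ, SL2Mult.up (a / ((μ : F) ^ 2 - 1))⁆ = SL2Mult.up a := by
      rw [commutatorElement_def, SL2Mult.torus_conj_up, mul_inv_eq_iff_eq_mul, ← SL2Mult.up_add]
      congr 1
      field_simp
      ring
    rw [← e, commutator_def]
    exact Subgroup.commutator_mem_commutator (Subgroup.mem_top _) (Subgroup.mem_top _)
  let w : SL(2, F) := CfsgLib.SL2Trace.mkSL !![0, 1; -1, 0] (by simp [Matrix.det_fin_two_of])
  refine CfsgLib.Linear.sl_eq_top_of_transvections fun i j hij c => ?_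
  fin_cases i <;> fin_cases j <;> first | exact absurd rfl hij | skip
  · convert hup c using 1
    apply Subtype.ext
    ext a b
    fin_cases a <;> fin_cases b <;>
      simp [Matrix.SpecialLinearGroup.transvection, Matrix.transvection, SL2Mult.up,
        CfsgLib.SL2Trace.coe_mkSL]
  · have h : w * SL2Mult.up (-c) * w⁻¹ ∈ commutator SL(2, F) :=
      Subgroup.Normal.conj_mem inferInstance _ (hup (-c)) w
    convert h using 1
    apply Subtype.ext
    rw [Matrix.SpecialLinearGroup.coe_mul, Matrix.SpecialLinearGroup.coe_mul,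
      Matrix.SpecialLinearGroup.coe_inv, Matrix.adjugate_fin_two]
    ext a b
    fin_cases a <;> fin_cases b <;>
      simp [w, Matrix.SpecialLinearGroup.transvection, Matrix.transvection, SL2Mult.up,
        CfsgLib.SL2Trace.coe_mkSL, Matrix.mul_apply]

theorem hasCyclicSchurMultiplier_sl_nine (hF : Fintype.card F = 9) :
    Cfsg.HasCyclicSchurMultiplier SL(2, F) 3 := by
  classical
  haveI : Finite SL(2, F) := inferInstance
  have h2 : (2 : F) ≠ 0 := Ring.two_ne_zero (fun h => by
    have := FiniteField.even_card_iff_char_two.1 h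
    rw [hF] at this; omega)
  constructor
  · obtain ⟨e⟩ := Cfsg.Agent.S0254.result (F := F) hF
    let π : SL(2, F) →* alternatingGroup (Fin 6) := e.toMonoidHom.comp (QuotientGroup.mk' _)
    have hsur : Function.Surjective π := e.surjective.comp (QuotientGroup.mk'_surjective _)
    obtain ⟨a, ha⟩ := hsur wit6.a
    obtain ⟨b, hb⟩ := hsur wit6.b
    refine exists_stem_three (up6.comp π) (commutator_sl_two (by omega)) a b
      (by rw [MonoidHom.comp_apply, ha, wit6.ha]) (by rw [MonoidHom.comp_apply, hb, wit6.hb]) ?_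
    have hz : π ⁅a, b⁆ = 1 := by
      rw [map_commutatorElement, ha, hb, commutatorElement_eq_one_iff_commute]; exact wit6.hab
    have hz' : ⁅a, b⁆ ∈ Subgroup.center SL(2, F) := by
      rw [← QuotientGroup.eq_one_iff]
      exact e.injective (by rw [map_one]; exact hz)
    rcases (CfsgLib.SL2Trace.mem_center_iff_eq _).1 hz' with h | h <;> rw [h]
    · exact one_pow 4
    · rw [show 4 = 2 * 2 from rfl, pow_mul, neg_one_sq, one_pow]
  · intro Γ _ _ σ hσ
    obtain ⟨p, hp⟩ := CharP.exists F
    obtain ⟨n, hpp, hq⟩ := FiniteField.card F p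
    have hp3 : p = 3 := by
      have : p ∣ 9 := hF ▸ hq ▸ dvd_pow_self p n.pos.ne'
      exact (Nat.prime_dvd_prime_iff_eq hpp Nat.prime_three).1
        (hpp.dvd_of_dvd_pow (show p ∣ 3 ^ 2 by norm_num; exact this))
    subst hp3
    have hcard : Nat.card SL(2, F) = 720 := by
      rw [CfsgLib.Linear.card_SL_two, hF]; norm_num
    have hord : ∀ c : F, c ≠ 0 → orderOf (SL2Mult.up c) = 3 := fun c hc => by
      have h1 : SL2Mult.up c = SL2Mult.upHom F (Multiplicative.ofAdd c) := rfl
      rw [h1, orderOf_injective (SL2Mult.upHom F) (fun x y h =>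
        Multiplicative.toAdd.injective (SL2Mult.up_injective h)), orderOf_ofAdd_eq_addOrderOf]
      haveI := Fact.mk Nat.prime_three
      refine addOrderOf_eq_prime ?_ hc
      rw [nsmul_eq_mul, CharP.cast_eq_zero, zero_mul]
    obtain ⟨ω, hω⟩ : ∃ ω : F, ω ∉ ({0, 1, 2} : Finset F) := by
      obtain ⟨x, -, hx⟩ := Finset.exists_mem_notMem_of_card_lt_card
        (s := ({0, 1, 2} : Finset F)) (t := Finset.univ) (by
          rw [Finset.card_univ, hF]; exact lt_of_le_of_lt Finset.card_le_three (by norm_num))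
      exact ⟨x, hx⟩
    simp only [Finset.mem_insert, Finset.mem_singleton, not_or] at hω
    have hba : SL2Mult.up ω ∉ Subgroup.zpowers (SL2Mult.up (1 : F)) := by
      refine not_mem_zpowers_of_three (hord 1 one_ne_zero) ⟨?_, ?_, ?_⟩
      · intro h
        have := hord ω hω.1
        rw [h, orderOf_one] at this
        omega
      · exact fun h => hω.2.1 (SL2Mult.up_injective h)
      · rw [← SL2Mult.up_add]
        exact fun h => hω.2.2 ((SL2Mult.up_injective h).trans one_add_one_eq_two)
    obtain ⟨e, j, he, he3, hj, hjd, hej⟩ := three_part σ hσ (hord 1 one_ne_zero) (hord ω hω.1)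
      (by rw [Commute, SemiconjBy, ← SL2Mult.up_add, ← SL2Mult.up_add, add_comm]) hba
      (by rw [hcard]; norm_num)
    refine exists_hom_onto σ.ker he he3 fun z hz => ?_
    have hg : j.Coprime (orderOf z) := by
      refine Nat.coprime_of_dvd fun ℓ hℓ h1 h2' => ?_
      haveI := Fact.mk hℓ
      have hd : ℓ ∣ Nat.card σ.ker := by
        have hd2 : orderOf (⟨z, hz⟩ : σ.ker) ∣ Nat.card σ.ker := orderOf_dvd_natCard _
        rw [← Subgroup.orderOf_coe] at hd2
        exact h2'.trans hd2
      by_cases hℓ3 : ℓ = 3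
      · subst hℓ3; exact hj h1
      · exact Schur.not_dvd_card_ker_of_exponent_p
          (fun _ _ _ τ hτ hexp => SL2Mult.ker_eq_bot_of_ne_char 3 hℓ3 (h1.trans hjd) τ hτ hexp)
          σ hσ hd
    obtain ⟨i, hi⟩ := exists_pow_eq_self_of_coprime hg
    rw [← hi]
    exact pow_mem (hej z hz) i

end SLTwo

end CfsgLib.AltCover
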