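import Cfsg.Agent.Schur.Basic

/-!
A perfect group mapped into a quotient of a centraliser by a cyclic central subgroup gives a stem
extension, whose kernel contains every commutator of lifts of commuting elements.
-/

set_option autoImplicit false

namespace CfsgLib.AltCover

open scoped commutatorElement

variable {Q G : Type*} [Group Q] [Group G] (z : G) [hN : (Subgroup.zpowers z).Normal]
  (f : Q →* G ⧸ Subgroup.zpowers z)

/-- pairs lifting `f` inside the centraliser of `z` -/
def pullback : Subgroup (Q × G) :=
  (MonoidHom.eqLocus ((QuotientGroup.mk' (Subgroup.zpowers z)).comp (MonoidHom.snd Q G))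
    (f.comp (MonoidHom.fst Q G))) ⊓
    (Subgroup.centralizer ({z} : Set G)).comap (MonoidHom.snd Q G)

/-- the perfect part of the pullback -/
def core : Subgroup (Q × G) := ⁅pullback z f, pullback z f⁆

/-- projection of the perfect part -/
def coreMap : core z f →* Q := (MonoidHom.fst Q G).comp (core z f).subtype

theorem mem_pullback {q : Q} {x : G} :
    (q, x) ∈ pullback z f ↔ (x : G ⧸ Subgroup.zpowers z) = f q ∧ z * x = x * z := by
  rw [pullback, Subgroup.mem_inf, Subgroup.mem_comap, Subgroup.mem_centralizer_singleton_iff]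
  exact and_congr Iff.rfl eq_comm

variable (hlift : ∀ q, ∃ x : G, (x : G ⧸ Subgroup.zpowers z) = f q ∧ z * x = x * z)

include hlift

theorem map_pullback : (pullback z f).map (MonoidHom.fst Q G) = ⊤ := by
  rw [eq_top_iff]
  intro q _
  obtain ⟨x, hx⟩ := hlift q
  exact ⟨(q, x), (mem_pullback z f).2 hx, rfl⟩

theorem coreMap_isStem (hQ : commutator Q = ⊤) : Cfsg.IsStemExtension (coreMap z f) := by
  set E := pullback z f with hE
  have hsurj : Function.Surjective (coreMap z f) := by
    intro q
    have h : q ∈ (core z f).map (MonoidHom.fst Q G) := by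
      rw [core, Subgroup.map_commutator, map_pullback z f hlift, ← commutator_def, hQ]
      exact Subgroup.mem_top q
    obtain ⟨y, hy, rfl⟩ := h
    exact ⟨⟨y, hy⟩, rfl⟩
  have hcoreE : core z f ≤ E := by
    rw [core, ← hE, Subgroup.commutator_le]
    intro a ha b hb
    rw [commutatorElement_def]
    exact E.mul_mem (E.mul_mem (E.mul_mem ha hb) (E.inv_mem ha)) (E.inv_mem hb)
  have hcen : ∀ y ∈ E, y.1 = 1 → ∀ w ∈ E, y * w = w * y := by
    rintro ⟨q, x⟩ hy h1 ⟨q', x'⟩ hw
    simp only at h1
    subst h1
    rw [hE, mem_pullback, map_one, QuotientGroup.eq_one_iff] at hy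
    rw [hE, mem_pullback] at hw
    obtain ⟨k, rfl⟩ := Subgroup.mem_zpowers_iff.1 hy.1
    exact Prod.ext (by simp) ((show Commute z x' from hw.2).zpow_left k).eq
  refine ⟨hsurj, ?_, ?_⟩
  · intro y hy
    rw [Subgroup.mem_center_iff]
    intro w
    exact Subtype.ext (hcen _ (hcoreE y.2) hy _ (hcoreE w.2)).symm
  · have hperf : core z f ≤ ⁅core z f, core z f⁆ := by
      rw [core, Subgroup.commutator_le]
      intro a ha b hb
      obtain ⟨⟨a', ha'⟩, e1⟩ := hsurj a.1
      obtain ⟨⟨b', hb'⟩, e2⟩ := hsurj b.1
      have e1' : a'.1 = a.1 := e1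
      have e2' : b'.1 = b.1 := e2
      have key : ⁅a, b⁆ = ⁅a', b'⁆ := by
        have hk : a * a'⁻¹ ∈ E := E.mul_mem ha (E.inv_mem (hcoreE ha'))
        have hl : b * b'⁻¹ ∈ E := E.mul_mem hb (E.inv_mem (hcoreE hb'))
        have c1 : ∀ w ∈ E, Commute (a * a'⁻¹) w := hcen _ hk (by simp [e1'])
        have c2 : ∀ w ∈ E, Commute (b * b'⁻¹) w := hcen _ hl (by simp [e2'])
        calc ⁅a, b⁆ = ⁅a * a'⁻¹ * a', b * b'⁻¹ * b'⁆ := by
              rw [inv_mul_cancel_right, inv_mul_cancel_right]
          _ = ⁅a', b'⁆ := by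
              rw [commutatorElement_def, commutatorElement_def]
              have h1 := c1 a' (hcoreE ha')
              have h2 := c2 b' (hcoreE hb')
              have h3 := c1 b' (hcoreE hb')
              have h4 := c2 a' (hcoreE ha')
              have h5 : Commute (a * a'⁻¹) (b * b'⁻¹) := c1 _ hl
              generalize a * a'⁻¹ = u at *
              generalize b * b'⁻¹ = v at *
              have k1 : u * a' * (v * b') * (u * a')⁻¹ = v * (a' * b' * a'⁻¹) := by
                calc u * a' * (v * b') * (u * a')⁻¹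
                    = u * (a' * v) * b' * a'⁻¹ * u⁻¹ := by group
                  _ = u * (v * (a' * b' * a'⁻¹)) * u⁻¹ := by rw [← h4.eq]; group
                  _ = _ := by
                    rw [(h5.mul_right ((h1.mul_right h3).mul_right h1.inv_right)).eq,
                      mul_inv_cancel_right]
              rw [k1, mul_inv_rev]
              have k2 : Commute v (a' * b' * a'⁻¹ * b'⁻¹) :=
                ((h4.mul_right h2).mul_right h4.inv_right).mul_right h2.inv_right
              calc v * (a' * b' * a'⁻¹) * (b'⁻¹ * v⁻¹)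
                  = v * (a' * b' * a'⁻¹ * b'⁻¹) * v⁻¹ := by group
                _ = _ := by rw [k2.eq, mul_inv_cancel_right]
      rw [key]
      exact Subgroup.commutator_mem_commutator ha' hb'
    intro y hy
    have h := hperf y.2
    have e := Subgroup.map_commutator (⊤ : Subgroup (core z f)) ⊤ (core z f).subtype
    rw [← MonoidHom.range_eq_map, Subgroup.range_subtype] at e
    rw [← e, ← commutator_def] at h
    obtain ⟨y', hy', e⟩ := h
    rw [Subgroup.coe_subtype] at e
    rw [← Subtype.ext e]
    exact hy'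

omit hlift in
theorem coreMap_ker_le {y : core z f} (hy : coreMap z f y = 1) :
    (y : Q × G).2 ∈ Subgroup.zpowers z := by
  have hE : (y : Q × G) ∈ pullback z f := by
    refine (Subgroup.commutator_le.2 fun a ha b hb => ?_) y.2
    rw [commutatorElement_def]
    exact Subgroup.mul_mem _ (Subgroup.mul_mem _ (Subgroup.mul_mem _ ha hb)
      (Subgroup.inv_mem _ ha)) (Subgroup.inv_mem _ hb)
  have h := ((mem_pullback z f).1 (show ((y : Q × G).1, (y : Q × G).2) ∈ _ from hE)).1
  change (y : Q × G).1 = 1 at hy
  rw [hy, map_one, QuotientGroup.eq_one_iff] at h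
  exact h

/-- If `(1, z)` lies in the perfect part, the kernel is cyclic of the order of `z`. -/
theorem exists_stem (hQ : commutator Q = ⊤) (hz : ((1 : Q), z) ∈ core z f) :
    Cfsg.IsStemExtension (coreMap z f) ∧
      Nonempty ((coreMap z f).ker ≃* Multiplicative (ZMod (orderOf z))) := by
  refine ⟨coreMap_isStem z f hlift hQ, ?_⟩
  let φ : (coreMap z f).ker →* Subgroup.zpowers z :=
    ((MonoidHom.snd Q G).comp ((core z f).subtype.comp (coreMap z f).ker.subtype)).codRestrict _
      fun y => coreMap_ker_le z f y.2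
  have hφ : Function.Bijective φ := by
    constructor
    · intro a b h
      apply Subtype.ext; apply Subtype.ext
      exact Prod.ext ((show _ = (1 : Q) from a.2).trans (show _ = (1 : Q) from b.2).symm)
        (congrArg Subtype.val h)
    · rintro ⟨w, hw⟩
      obtain ⟨k, rfl⟩ := Subgroup.mem_zpowers_iff.1 hw
      refine ⟨⟨⟨((1 : Q), z) ^ k, (core z f).zpow_mem hz k⟩, ?_⟩, ?_⟩
      · show (((1 : Q), z) ^ k).1 = 1
        simp
      · apply Subtype.ext
        show (((1 : Q), z) ^ k).2 = z ^ k
        simp
  haveI : IsCyclic (Subgroup.zpowers z) := inferInstance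
  exact ⟨(MulEquiv.ofBijective φ hφ).trans
    (mulEquivOfCyclicCardEq (by rw [Nat.card_zpowers, Nat.card_congr Multiplicative.toAdd,
      Nat.card_zmod]))⟩

omit hlift in
theorem commutator_mem_core {q q' : Q} {x x' : G} (h : (q, x) ∈ pullback z f)
    (h' : (q', x') ∈ pullback z f) (hq : Commute q q') :
    ((1 : Q), ⁅x, x'⁆) ∈ core z f := by
  have := Subgroup.commutator_mem_commutator h h'
  rwa [show ⁅(q, x), (q', x')⁆ = ((1 : Q), ⁅x, x'⁆) from Prod.ext
    (commutatorElement_eq_one_iff_commute.2 hq) rfl] at this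

end CfsgLib.AltCover
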