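import Cfsg.Agent.AltCover.Data
import Cfsg.Agent.AltCover.Perfect
import Cfsg.Agent.CoxeterSym.Basic

/-!
Projective representations of `S₇` on the normaliser of a cyclic group, from involutions satisfying
the Coxeter relations up to that group.
-/

set_option autoImplicit false
set_option linter.style.haveILetI false

namespace CfsgLib.AltCover

open scoped commutatorElement
open Equiv

section Generic

variable {G : Type*} [Group G] (z : G)

/-- the normaliser of the cyclic group -/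
abbrev NN : Subgroup G := Subgroup.normalizer (Subgroup.zpowers z : Set G)

/-- `z` inside the normaliser -/
def zz : NN z := ⟨z, Subgroup.le_normalizer (Subgroup.mem_zpowers z)⟩

instance zz_zpowers_normal : (Subgroup.zpowers (zz z)).Normal where
  conj_mem := by
    rintro x ⟨k, rfl⟩ g
    obtain ⟨l, hl⟩ := (Subgroup.mem_normalizer_iff.1 g.2 (z ^ k)).1 ⟨k, rfl⟩
    exact ⟨l, Subtype.ext (by simpa [zz] using hl)⟩

theorem mem_normalizer_of_conj [Finite G] {x : G} (h : x * z * x⁻¹ ∈ Subgroup.zpowers z) :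
    x ∈ NN z := by
  have hle : (Subgroup.zpowers z).map (MulAut.conj x).toMonoidHom ≤ Subgroup.zpowers z := by
    rw [MonoidHom.map_zpowers, Subgroup.zpowers_le]
    simpa using h
  have heq := Subgroup.eq_of_le_of_card_ge hle (le_of_eq (Nat.card_congr
    (Subgroup.equivMapOfInjective _ _ (MulAut.conj x).injective).toEquiv))
  rw [Subgroup.mem_normalizer_iff]
  intro y
  constructor
  · intro hy
    rw [← heq]
    exact ⟨y, hy, by simp⟩
  · intro hy
    rw [← heq] at hy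
    obtain ⟨w, hw, e⟩ := hy
    have : w = y := (MulAut.conj x).injective (by simpa using e)
    exact this ▸ hw

/-- the Coxeter relations of `S₇` modulo a cyclic group -/
structure ModRels (t : Fin 6 → G) : Prop where
  sq : ∀ i, t i * t i = 1
  nor : ∀ i, t i * z * t i ∈ Subgroup.zpowers z
  braid : ∀ i j : Fin 6, j.val = i.val + 1 →
    t i * t j * t i * t j * t i * t j ∈ Subgroup.zpowers z
  comm : ∀ i j : Fin 6, i.val + 1 < j.val → t i * t j * t i * t j ∈ Subgroup.zpowers z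

variable {z} [Finite G] {t : Fin 6 → G}

theorem ModRels.inv_eq (h : ModRels z t) (i : Fin 6) : (t i)⁻¹ = t i :=
  inv_eq_of_mul_eq_one_right (h.sq i)

theorem ModRels.mem (h : ModRels z t) (i : Fin 6) : t i ∈ NN z :=
  mem_normalizer_of_conj z (by rw [h.inv_eq]; exact h.nor i)

theorem ModRels.exists_hom (h : ModRels z t) :
    ∃ f : Perm (Fin 7) →* NN z ⧸ Subgroup.zpowers (zz z),
      ∀ i : Fin 6, f (swap i.castSucc i.succ) = ((⟨t i, h.mem i⟩ : NN z) : NN z ⧸ _) := by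
  let T : ℕ → NN z ⧸ Subgroup.zpowers (zz z) := fun i =>
    if hi : i < 6 then ((⟨t ⟨i, hi⟩, h.mem _⟩ : NN z) : NN z ⧸ _) else 1
  have hmem : ∀ x : NN z, (x : G) ∈ Subgroup.zpowers z → ((x : NN z ⧸ Subgroup.zpowers (zz z)) = 1) := by
    intro x hx
    rw [QuotientGroup.eq_one_iff]
    obtain ⟨k, hk⟩ := hx
    exact ⟨k, Subtype.ext (by simpa [zz] using hk)⟩
  have hT : CfsgLib.CoxeterSym.IsSymGens 6 T := by
    refine ⟨fun i hi => ?_, fun i hi => ?_, fun i j hij hj => ?_⟩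
    · simp only [T, dif_pos hi]
      exact hmem _ (by simp [h.sq])
    · simp only [T, dif_pos (show i < 6 by omega), dif_pos hi, ← QuotientGroup.mk_mul]
      rw [eq_comm, QuotientGroup.eq]
      refine ((QuotientGroup.eq_one_iff _).1 (hmem _ ?_))
      simp only [Subgroup.coe_mul, Subgroup.coe_inv, mul_inv_rev, h.inv_eq]
      have hb := h.braid ⟨i, by omega⟩ ⟨i + 1, hi⟩ rfl
      have hb' := (Subgroup.zpowers z).inv_mem hb
      simp only [mul_inv_rev, h.inv_eq] at hb'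
      simpa [mul_assoc] using hb'
    · simp only [T, dif_pos (show i < 6 by omega), dif_pos hj, ← QuotientGroup.mk_mul]
      rw [eq_comm, QuotientGroup.eq]
      refine ((QuotientGroup.eq_one_iff _).1 (hmem _ ?_))
      simp only [Subgroup.coe_mul, Subgroup.coe_inv, mul_inv_rev, h.inv_eq]
      simpa [mul_assoc] using h.comm ⟨i, by omega⟩ ⟨j, hj⟩ hij
  obtain ⟨f, hf⟩ := CfsgLib.CoxeterSym.exists_hom hT
  exact ⟨f, fun i => by rw [hf i]; simp [T, i.isLt]⟩

theorem lift_centralizes {Q : Type*} [Group Q]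
    (g : Q →* Perm (Fin 7)) (hQ : commutator Q = ⊤)
    (f : Perm (Fin 7) →* NN z ⧸ Subgroup.zpowers (zz z)) (q : Q) :
    ∃ x : NN z, (x : NN z ⧸ Subgroup.zpowers (zz z)) = f.comp g q ∧ zz z * x = x * zz z := by
  let S : Subgroup Q := ((Subgroup.centralizer ({zz z} : Set (NN z))).map
    (QuotientGroup.mk' (Subgroup.zpowers (zz z)))).comap (f.comp g)
  have hS : commutator Q ≤ S := by
    rw [commutator_def, Subgroup.commutator_le]
    intro a _ b _
    obtain ⟨x, hx⟩ := QuotientGroup.mk'_surjective _ (f.comp g a)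
    obtain ⟨y, hy⟩ := QuotientGroup.mk'_surjective _ (f.comp g b)
    refine ⟨⁅x, y⁆, ?_, by rw [map_commutatorElement, hx, hy, map_commutatorElement]⟩
    have conj : ∀ w : NN z, ∃ k : ℤ, w * zz z * w⁻¹ = zz z ^ k := fun w => by
      obtain ⟨k, hk⟩ := (zz_zpowers_normal z).conj_mem _ (Subgroup.mem_zpowers (zz z)) w
      exact ⟨k, hk.symm⟩
    obtain ⟨i, hi⟩ := conj x⁻¹
    obtain ⟨j, hj⟩ := conj y⁻¹
    have e1 : (x⁻¹ * y⁻¹) * zz z * (x⁻¹ * y⁻¹)⁻¹ = zz z ^ (i * j) := by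
      rw [show (x⁻¹ * y⁻¹) * zz z * (x⁻¹ * y⁻¹)⁻¹ = x⁻¹ * (y⁻¹ * zz z * y⁻¹⁻¹) * x⁻¹⁻¹ by group,
        hj, ← conj_zpow, hi, zpow_mul]
    have e2 : (y⁻¹ * x⁻¹) * zz z * (y⁻¹ * x⁻¹)⁻¹ = zz z ^ (i * j) := by
      rw [show (y⁻¹ * x⁻¹) * zz z * (y⁻¹ * x⁻¹)⁻¹ = y⁻¹ * (x⁻¹ * zz z * x⁻¹⁻¹) * y⁻¹⁻¹ by group,
        hi, ← conj_zpow, hj, mul_comm i, zpow_mul]
    rw [SetLike.mem_coe, Subgroup.mem_centralizer_singleton_iff]
    have e4 : ⁅x, y⁆ * zz z * ⁅x, y⁆⁻¹ = zz z :=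
      calc _ = (y⁻¹ * x⁻¹)⁻¹ * ((x⁻¹ * y⁻¹) * zz z * (x⁻¹ * y⁻¹)⁻¹) * (y⁻¹ * x⁻¹) := by
            simp only [commutatorElement_def]; group
        _ = (y⁻¹ * x⁻¹)⁻¹ * ((y⁻¹ * x⁻¹) * zz z * (y⁻¹ * x⁻¹)⁻¹) * (y⁻¹ * x⁻¹) := by rw [e1, e2]
        _ = _ := by group
    exact mul_inv_eq_iff_eq_mul.1 e4
  obtain ⟨x, hx, e⟩ := hS (hQ ▸ Subgroup.mem_top q)
  exact ⟨x, e, (Subgroup.mem_centralizer_singleton_iff.1 hx).symm⟩

end Generic

end CfsgLib.AltCover
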